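import Groth.Agent.S3034
import Groth.Agent.Lib.SecDiv18.Peel
import Groth.Agent.Lib.AlgGrpBasic19.Basic
import Groth.Agent.Lib.AlgSpDescent.SchemeSource
import Mathlib.AlgebraicGeometry.Morphisms.SchemeTheoreticallyDominant

/-!
A schematically dominant homomorphism to a cofiltered limit of algebraic groups.
-/

universe u

open CategoryTheory CategoryTheory.Limits AlgebraicGeometry MonoidalCategory CartesianMonoidalCategory MonObj

set_option linter.style.haveILetI false
set_option backward.isDefEq.respectTransparency false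
set_option backward.isDefEq.respectTransparency.types false

namespace Groth.Agent.GrpLim19

variable {k : Type u} [Field k]

theorem eq_of_comp_eq {X Y Z : Over (Spec (CommRingCat.of k))} [IsSeparated Z.hom] (u : X ⟶ Y)
    (hu : u.left.ker = ⊥) (a b : Y ⟶ Z) (h : u ≫ a = u ≫ b) : a = b := by
  let p : Y.left ⟶ pullback Z.hom Z.hom := pullback.lift a.left b.left ((Over.w a).trans (Over.w b).symm)
  let e := pullback.fst p (pullback.diagonal Z.hom)
  haveI : IsClosedImmersion e := inferInstance
  obtain ⟨l, hl⟩ : ∃ l, l ≫ e = u.left := by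
    refine ⟨pullback.lift u.left (u.left ≫ a.left) ?_, pullback.lift_fst _ _ _⟩
    apply pullback.hom_ext
    · simp [p, pullback.diagonal_fst]
    · simp [p, pullback.diagonal_snd]
      exact (congrArg CommaMorphism.left h).symm
  haveI : IsIso e := IsClosedImmersion.isIso_iff_ker_eq_bot.2 (eq_bot_iff.2 (by
    rw [← hu, ← hl]
    exact Scheme.Hom.le_ker_comp _ _))
  have hc := pullback.condition (f := p) (g := pullback.diagonal Z.hom)
  have h1 := congrArg (· ≫ pullback.fst Z.hom Z.hom) hc
  have h2 := congrArg (· ≫ pullback.snd Z.hom Z.hom) hc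
  simp only [Category.assoc, p, pullback.lift_fst, pullback.lift_snd, pullback.diagonal_fst,
    pullback.diagonal_snd, Category.comp_id] at h1 h2
  refine Over.OverMorphism.ext ?_
  rw [← cancel_epi e]
  exact h1.trans h2.symm

section Ker

variable {G C : Over (Spec (CommRingCat.of k))} [GrpObj G] [GrpObj C] (p : G ⟶ C)

/-- the closed subscheme underlying the kernel -/
noncomputable def kerι : pullback p.left (η[C] : _ ⟶ C).left ⟶ G.left := pullback.fst _ _

instance : IsClosedImmersion (kerι p) := by
  haveI := AbRigid.isSeparated_of_grpObj C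
  haveI : IsClosedImmersion (η[C] : 𝟙_ (Over (Spec (CommRingCat.of k))) ⟶ C).left :=
    isClosedImmersion_of_comp_eq_id C.hom _ (Over.w η[C])
  unfold kerι
  infer_instance

theorem factors_iff {T : Over (Spec (CommRingCat.of k))} (g : T ⟶ G) :
    g ≫ p = 1 ↔ ∃ l, l ≫ kerι p = g.left := by
  have e : (1 : T ⟶ C).left = T.hom ≫ (η[C] : _ ⟶ C).left := by
    rw [Hom.one_def, Over.comp_left]; rfl
  constructor
  · intro h
    exact ⟨pullback.lift g.left T.hom (by rw [← Over.comp_left, h, e]), pullback.lift_fst _ _ _⟩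
  · rintro ⟨l, hl⟩
    refine Over.OverMorphism.ext ?_
    rw [Over.comp_left, ← hl, e, kerι, Category.assoc, pullback.condition, ← Category.assoc]
    congr 1
    rw [← Over.w g, ← hl]
    show _ = (l ≫ pullback.fst _ _) ≫ G.hom
    rw [← Over.w p, Category.assoc, pullback.condition_assoc, Over.w (η[C])]
    exact congrArg (l ≫ ·) (Category.comp_id _).symm

/-- the ideal of the kernel -/
noncomputable def kerIdeal : G.left.IdealSheafData := (kerι p).ker

theorem factors_iff_le {T : Over (Spec (CommRingCat.of k))} (g : T ⟶ G) :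
    g ≫ p = 1 ↔ kerIdeal p ≤ g.left.ker := by
  rw [factors_iff]
  constructor
  · rintro ⟨l, hl⟩
    rw [← hl]
    exact Scheme.Hom.le_ker_comp _ _
  · exact fun h => ⟨IsClosedImmersion.lift _ _ h, IsClosedImmersion.lift_fac _ _ _⟩

/-- a homomorphism killing the kernel's pieces has a bigger kernel -/
theorem kerIdeal_le {D : Over (Spec (CommRingCat.of k))} [GrpObj D] (q : G ⟶ D)
    (h : ∀ (T : Over (Spec (CommRingCat.of k))) (g : T ⟶ G), g ≫ p = 1 → g ≫ q = 1) :
    kerIdeal q ≤ kerIdeal p := by
  let T : Over (Spec (CommRingCat.of k)) := Over.mk (kerι p ≫ G.hom)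
  let g : T ⟶ G := Over.homMk (kerι p) rfl
  have h1 : g ≫ p = 1 := (factors_iff p g).2 ⟨𝟙 _, Category.id_comp _⟩
  exact (factors_iff_le q g).1 (h T g h1)

end Ker

section Main

theorem main (G : Over (Spec (CommRingCat.of k))) [GrpObj G]
    [LocallyOfFiniteType G.hom] [QuasiCompact G.hom]
    (J : Type u) [SmallCategory J] [IsCofiltered J] (D : J ⥤ Over (Spec (CommRingCat.of k)))
    [∀ j, GrpObj (D.obj j)] [∀ (j j' : J) (φ : j ⟶ j'), IsMonHom (D.map φ)]
    (hD : ∀ j, LocallyOfFiniteType (D.obj j).hom ∧ QuasiCompact (D.obj j).hom)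
    (c : Cone D) (hc : IsLimit c) [GrpObj c.pt] [∀ j, IsMonHom (M := c.pt) (N := D.obj j) (c.π.app j)]
    (u : G ⟶ c.pt) [IsMonHom u] (hdom : u.left.ker = ⊥) :
    Flat u.left ∧ Surjective u.left ∧ LocallyOfFiniteType c.pt.hom ∧ QuasiCompact c.pt.hom := by
  classical
  haveI : IsLocallyNoetherian G.left := LocallyOfFiniteType.isLocallyNoetherian G.hom
  haveI : IsNoetherian G.left := { toCompactSpace := QuasiCompact.compactSpace_of_compactSpace G.hom }
  have hex : ∀ j, ∃ (C : Over (Spec (CommRingCat.of k))) (_ : GrpObj C) (p : G ⟶ C) (i : C ⟶ D.obj j),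
      IsMonHom p ∧ IsMonHom i ∧ p ≫ i = u ≫ c.π.app j ∧
      Flat p.left ∧ Surjective p.left ∧ LocallyOfFinitePresentation p.left ∧ IsClosedImmersion i.left := by
    intro j
    haveI := (hD j).1
    haveI : QuasiCompact (u ≫ c.π.app j).left := AlgGrpBasic19.quasiCompact_left _
    refine Groth.Agent.S3034.result k G (D.obj j) (u ≫ c.π.app j) ?_
    let f : pullback (u ≫ c.π.app j).left (η[D.obj j] : _ ⟶ D.obj j).left ⟶ Spec (CommRingCat.of k) := pullback.snd _ _
    exact (inferInstance : Flat f)
  choose C hC p i hp hi hpi hfl hsu hfp hci using hex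
  letI : ∀ j, GrpObj (C j) := hC
  have hlft : ∀ j, LocallyOfFiniteType (C j).hom := fun j => by
    haveI := (hD j).1; haveI := hci j
    rw [← Over.w (i j)]; infer_instance
  have hqc : ∀ j, QuasiCompact (C j).hom := fun j => by
    haveI := (hD j).2; haveI := hci j
    rw [← Over.w (i j)]; infer_instance
  have hmono : ∀ j, Mono (i j) := fun j => by
    haveI := hci j
    exact (Over.forget _).mono_of_mono_map (f := i j) (show Mono (i j).left from inferInstance)
  have hepi : ∀ j, Epi (p j) := fun j => by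
    haveI := hlft j; haveI := hfl j; haveI := hsu j
    haveI : QuasiCompact (p j).left := AlgGrpBasic19.quasiCompact_left _
    exact AlgGrpBasic19.epi_of_cover (p j)
  -- a deepest kernel
  haveI := SecDiv.wellFoundedGT (X := G.left)
  obtain ⟨-, ⟨j0, rfl⟩, hmax⟩ := wellFounded_gt.has_min (Set.range fun j => kerIdeal (p j))
    ⟨_, IsCofiltered.nonempty.some, rfl⟩
  have hker : ∀ (j : J) (φ : j ⟶ j0), kerIdeal (p j) = kerIdeal (p j0) := by
    intro j φ
    have hle : kerIdeal (p j0) ≤ kerIdeal (p j) := by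
      refine kerIdeal_le (p j) (p j0) fun T g h => ?_
      haveI := hmono j0
      haveI := hi j0; haveI := hi j
      rw [← cancel_mono (i j0), Category.assoc, hpi, ← c.w φ, ← Category.assoc u, ← hpi j, Category.assoc,
        ← Category.assoc g, h]
      simp
    exact (eq_or_lt_of_le hle).elim (fun e => e.symm) fun hlt => absurd hlt (hmax _ ⟨j, rfl⟩)
  -- transition maps among the images
  have htrans : ∀ (j : J) (φ : j ⟶ j0), ∃ s : C j0 ⟶ C j, p j0 ≫ s = p j := by
    intro j φ
    haveI := hlft j0; haveI := hfl j0; haveI := hsu j0; haveI := hp j0; haveI := hp j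
    haveI : QuasiCompact (p j0).left := AlgGrpBasic19.quasiCompact_left _
    refine AlgGrpBasic19.exists_desc (p j0) (p j) fun T a b h => ?_
    have h1 : (a * b⁻¹) ≫ p j0 = 1 := by rw [MonObj.mul_comp, GrpObj.inv_comp, h, mul_inv_cancel]
    rw [factors_iff_le, ← hker j φ, ← factors_iff_le, MonObj.mul_comp, GrpObj.inv_comp, mul_inv_eq_one] at h1
    exact h1
  have hs : ∀ j, ∃ s : C j0 ⟶ D.obj j, p j0 ≫ s = u ≫ c.π.app j := by
    intro j
    obtain ⟨t, ht⟩ := htrans (IsCofiltered.min j j0) (IsCofiltered.minToRight j j0)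
    refine ⟨t ≫ i _ ≫ D.map (IsCofiltered.minToLeft j j0), ?_⟩
    rw [← Category.assoc, ht, ← Category.assoc, hpi, Category.assoc, c.w]
  choose s hs using hs
  haveI := hepi j0
  let K : Cone D :=
    { pt := C j0
      π := { app := s
             naturality := fun j j' φ => by
              show 𝟙 _ ≫ s j' = s j ≫ D.map φ
              rw [Category.id_comp, ← cancel_epi (p j0), hs, ← Category.assoc, hs, Category.assoc, c.w] } }
  let v : C j0 ⟶ c.pt := hc.lift K
  have hv : p j0 ≫ v = u := hc.hom_ext fun j => by rw [Category.assoc, hc.fac K, hs]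
  obtain ⟨g, hg⟩ : ∃ g : c.pt ⟶ C j0, g ≫ i j0 = c.π.app j0 := by
    haveI := hci j0
    have hle : (i j0).left.ker ≤ (c.π.app j0).left.ker := by
      calc (i j0).left.ker ≤ ((p j0).left ≫ (i j0).left).ker := Scheme.Hom.le_ker_comp _ _
        _ = (u.left ≫ (c.π.app j0).left).ker := by rw [← Over.comp_left, hpi, Over.comp_left]
        _ = (c.π.app j0).left.ker := by rw [Scheme.Hom.ker_comp, hdom, Scheme.IdealSheafData.map_bot]
    refine ⟨Over.homMk (IsClosedImmersion.lift (i j0).left (c.π.app j0).left hle) ?_, ?_⟩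
    · rw [← Over.w (i j0), IsClosedImmersion.lift_fac_assoc]
      exact Over.w (c.π.app j0)
    · ext1; exact IsClosedImmersion.lift_fac _ _ _
  haveI := hmono j0
  have hug : u ≫ g = p j0 := by rw [← cancel_mono (i j0), Category.assoc, hg, hpi]
  have hvg : v ≫ g = 𝟙 _ := by rw [← cancel_epi (p j0), ← Category.assoc, hv, hug, Category.comp_id]
  have hgv : g ≫ v = 𝟙 _ := hc.hom_ext fun j => by
    haveI := AbRigid.isSeparated_of_grpObj (D.obj j)
    refine eq_of_comp_eq u hdom _ _ ?_
    rw [Category.assoc g, ← Category.assoc u, hug, ← Category.assoc (p j0), hv, Category.id_comp]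
  haveI : IsIso v := ⟨g, hvg, hgv⟩
  haveI : IsIso v.left := inferInstanceAs (IsIso ((Over.forget _).map v))
  haveI := hfl j0; haveI := hsu j0; haveI := hlft j0; haveI := hqc j0
  have e : u.left = (p j0).left ≫ v.left := by rw [← Over.comp_left, hv]
  haveI : IsIso g := ⟨v, hgv, hvg⟩
  haveI : IsIso g.left := inferInstanceAs (IsIso ((Over.forget _).map g))
  refine ⟨?_, ?_, ?_, ?_⟩
  · rw [e]; infer_instance
  · rw [e]; infer_instance
  · rw [← Over.w g]; infer_instance
  · rw [← Over.w g]; infer_instance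

end Main

end Groth.Agent.GrpLim19
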